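import Cfsg.Agent.H670.S8.KB
import Cfsg.Agent.H704.S8.Defs
import Cfsg.Agent.H940.EngData
import Cfsg.Agent.H504.Zeros

/-!
# An engine for the rows FROB of S4908 (helper670)

`frobRow_of` : the row follows from one kernel computation over the divisors `m` of `|X|` (the orders of the subgroups
`T`): `m` is excluded if
* neither `|P|` nor `|Q|` divides `m`;
* `c m² ≤ |X|`, or `k(T) ≤ |X| / (c m)` by the bound of `KB.lean`;
* the order engine of helper940 excludes `m` (`bad`);
* the index `|X| / m` divides no member of the list `adm` (a superset of `D`);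
* the index is in the list `ex` (those are to be handled by hand).

`frob_pair` : a Frobenius subgroup from `|C(R)| = r`.
-/

set_option autoImplicit false

namespace Cfsg.Agent.H670.S8

open Cfsg Subgroup Cfsg.Agent.H940.Eng Cfsg.Agent.H704.S8 Cfsg.Agent.OrdDiv

universe u v

/-- all products `m ∏ p ^ k`, `k ≤ e` -/
def allD (P : ℕ → Bool) : List (ℕ × ℕ) → ℕ → Bool
  | [], m => P m
  | x :: l, m => (List.range (x.2 + 1)).all fun a => allD P l (m * x.1 ^ a)

theorem allD_sound {P : ℕ → Bool} : ∀ {l : List (ℕ × ℕ)} {m : ℕ}, allD P l m = true → ∀ d ∈ divsT l, P (m * d) = true := by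
  intro l
  induction l with
  | nil =>
    intro m h d hd
    rw [divsT, List.mem_singleton] at hd
    rw [hd, mul_one]
    exact h
  | cons x l ih =>
    intro m h d hd
    rw [divsT, List.mem_flatMap] at hd
    obtain ⟨k, hk, hd⟩ := hd
    rw [List.mem_map] at hd
    obtain ⟨d', hd', rfl⟩ := hd
    unfold allD at h
    rw [List.all_eq_true] at h
    rw [← mul_assoc]
    exact ih (h k hk) d' hd'

/-- the test for the order `m` -/
def ftest (l : List (ℕ × ℕ)) (n c r e : ℕ) (cls : List (List (ℕ × List ℕ))) (adm ex : List ℕ) (bd : ℕ) (loc : List LD)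
    (ords : List ℕ) (m : ℕ) : Bool :=
  Nat.ble (c * (m * m)) n || (!(Nat.beq (m % r) 0) && !(Nat.beq (m % e) 0)) ||
    (cls.any fun cl => kb cl m 0 1 (n / m / c)) || Nat.beq m n ||
    (match adm with | [] => false | _ :: _ => adm.all fun d => !(Nat.beq (d % (n / m)) 0)) ||
    (ex.any fun i => Nat.beq i (n / m)) || bad l n [] bd loc ords m

/-- **the engine** -/
theorem frobRow_of {X : Type u} [Group X] {l : List (ℕ × ℕ)} {n : ℕ} {ords : List ℕ} {loc : List LD}
    (ctx : Ctx X l n ords loc) {c : ℕ} (hc : 0 < c) {D : Set ℕ} {cls : List (List (ℕ × List ℕ))}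
    (hcls : ∀ cl ∈ cls, ∀ x ∈ cl, CLoc X x) {adm : List ℕ} (hadm : adm ≠ [] → ∀ d ∈ D, d ∈ adm) {ex : List ℕ} {bd r e : ℕ}
    {P Q : Subgroup X} (hr : r.Prime) (hP : Nat.card P = r) (hQe : Nat.card Q = e)
    (hQ : Q ≤ normalizer (P : Set X)) (hfp : ∀ u ∈ P, ∀ g ∈ Q, g * u = u * g → u = 1 ∨ g = 1) (hQ1 : Q ≠ ⊥)
    (hex : ∀ T : Subgroup X, T ≠ ⊤ → (P ≤ T ∨ Q ≤ T) → (∃ d ∈ D, T.index ∣ d) → T.index ∈ ex →
      c * (Nat.card T * Nat.card (ConjClasses T)) ≤ Nat.card X)
    (h : allD (ftest l n c r e cls adm ex bd loc ords) l 1 = true) : FrobRow c D X := by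
  have := ctx.fin
  have := ctx.simple
  refine ⟨P, Q, hP ▸ hr, hQ, hfp, hQ1, ?_⟩
  intro T hT hPQ hd
  have hcard := card_subgroup_dvd_card T
  have hmul : Nat.card T * T.index = Nat.card X := card_mul_index T
  have hTpos : 0 < Nat.card T := Nat.card_pos
  have hn : Nat.card X = n := ctx.card
  have hidx : n / Nat.card T = T.index := by
    rw [← hn, ← hmul, Nat.mul_div_cancel_left _ hTpos]
  have hipos : 0 < T.index := Nat.pos_of_ne_zero T.index_ne_zero_of_finite
  have hkT : Nat.card (ConjClasses T) ≤ Nat.card T := by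
    exact Nat.card_le_card_of_surjective (ConjClasses.mk : T → ConjClasses T) (fun x => Quotient.exists_rep x)
  have fin : ∀ k : ℕ, Nat.card (ConjClasses T) ≤ k → k ≤ T.index / c →
      c * (Nat.card T * Nat.card (ConjClasses T)) ≤ Nat.card X := by
    intro k h1 h2
    have h3 : k * c ≤ T.index := (Nat.le_div_iff_mul_le hc).1 h2
    calc c * (Nat.card T * Nat.card (ConjClasses T)) ≤ c * (Nat.card T * k) := by gcongr
      _ = Nat.card T * (k * c) := by ring
      _ ≤ Nat.card T * T.index := by gcongr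
      _ = Nat.card X := hmul
  have hdiv : Nat.card T ∈ divsT l := by
    refine mem_divsT (valid_prime ctx.val) ?_
    rw [valid_prod ctx.val, ← hn]
    exact hcard
  have h1 := allD_sound h _ hdiv
  rw [one_mul] at h1
  unfold ftest at h1
  rw [Bool.or_eq_true, Bool.or_eq_true, Bool.or_eq_true, Bool.or_eq_true, Bool.or_eq_true, Bool.or_eq_true] at h1
  rcases h1 with ((((((h1 | h1) | h1) | h1) | h1) | h1) | h1)
  · rw [Nat.ble_eq] at h1
    rw [hn]
    refine le_trans ?_ h1
    gcongr
  · exfalso
    rw [Bool.and_eq_true, Bool.not_eq_true', Bool.not_eq_true'] at h1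
    rcases hPQ with hPQ | hPQ
    · have h2 := card_dvd_of_le hPQ
      rw [hP] at h2
      have h3 := h1.1
      rw [Nat.mod_eq_zero_of_dvd h2] at h3
      exact absurd h3 (by decide)
    · have h2 := card_dvd_of_le hPQ
      rw [hQe] at h2
      have h3 := h1.2
      rw [Nat.mod_eq_zero_of_dvd h2] at h3
      exact absurd h3 (by decide)
  · rw [List.any_eq_true] at h1
    obtain ⟨cl, hcl, h2⟩ := h1
    rw [hidx] at h2
    exact fin _ (card_cls_le T (hcls cl hcl) h2) le_rfl
  · exfalso
    refine hT ((card_eq_iff_eq_top T).1 ?_)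
    rw [hn]
    exact Nat.eq_of_beq_eq_true h1
  · exfalso
    obtain ⟨d, hdD, hdT⟩ := hd
    cases adm with
    | nil => exact Bool.noConfusion h1
    | cons a as =>
      have h2 : ((a :: as).all fun d => !(Nat.beq (d % (n / Nat.card T)) 0)) = true := h1
      rw [List.all_eq_true] at h2
      have h3 := h2 d (hadm (List.cons_ne_nil _ _) d hdD)
      rw [hidx, Nat.mod_eq_zero_of_dvd hdT] at h3
      exact absurd h3 (by decide)
  · rw [List.any_eq_true] at h1
    obtain ⟨i, hi, h2⟩ := h1
    have h3 := Nat.eq_of_beq_eq_true h2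
    rw [hidx] at h3
    exact hex T hT hPQ hd (h3 ▸ hi)
  · exfalso
    have h2 := not_bad ctx.val hn ctx.ords ctx.loc (full := []) (bd := bd) (H := T) (fun p hp => absurd hp List.not_mem_nil) hT
    rw [h2] at h1
    exact absurd h1 (by decide)

/-- a Frobenius subgroup from a self-centralizing subgroup of prime order -/
theorem frob_pair {X : Type u} [Group X] [Finite X] {R : Subgroup X} {r q : ℕ} (hr : r.Prime) (hq : q.Prime) (hqr : q ≠ r)
    (hR : Nat.card R = r) (hC : Nat.card (centralizer (R : Set X)) = r)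
    (hN : q ∣ Nat.card (normalizer (R : Set X))) :
    ∃ Q : Subgroup X, Nat.card Q = q ∧ Q ≤ normalizer (R : Set X) ∧
      (∀ u ∈ R, ∀ g ∈ Q, g * u = u * g → u = 1 ∨ g = 1) ∧ Q ≠ ⊥ := by
  have : Fact q.Prime := ⟨hq⟩
  obtain ⟨y, hy⟩ := exists_prime_orderOf_dvd_card' (G := normalizer (R : Set X)) q hN
  have hy' : orderOf (y : X) = q := by rw [orderOf_coe]; exact hy
  have hcard : Nat.card (zpowers (y : X)) = q := by rw [Nat.card_zpowers, hy']
  refine ⟨zpowers (y : X), hcard, (zpowers_le).2 y.2, ?_, ?_⟩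
  · intro u hu g hg hgu
    by_contra hne
    push Not at hne
    obtain ⟨hu1, hg1⟩ := hne
    have hRu : zpowers u = R := by
      refine Subgroup.eq_of_le_of_card_ge ((zpowers_le).2 hu) ?_
      rw [hR, Nat.card_zpowers]
      have h1 : orderOf u ∣ r := by rw [← hR]; exact R.orderOf_dvd_natCard hu
      rcases (Nat.dvd_prime hr).1 h1 with h2 | h2
      · exact absurd (orderOf_eq_one_iff.1 h2) hu1
      · exact h2.ge
    have hgC : g ∈ centralizer (R : Set X) := by
      rw [mem_centralizer_iff]
      intro x hx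
      rw [← hRu] at hx
      obtain ⟨k, rfl⟩ := mem_zpowers_iff.1 hx
      have : Commute u g := hgu.symm
      exact (this.zpow_left k).eq
    have h1 : orderOf g ∣ r := by
      rw [← hC]
      have := orderOf_dvd_natCard (⟨g, hgC⟩ : centralizer (R : Set X))
      rwa [← orderOf_coe] at this
    have h2 : orderOf g ∣ q := by
      rw [← hcard]
      have := orderOf_dvd_natCard (⟨g, hg⟩ : zpowers (y : X))
      rwa [← orderOf_coe] at this
    have h3 : orderOf g = 1 := by
      rcases (Nat.dvd_prime hr).1 h1 with h4 | h4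
      · exact h4
      · rcases (Nat.dvd_prime hq).1 h2 with h5 | h5
        · exact h5
        · exact absurd (h5.symm.trans h4) hqr
    exact hg1 (orderOf_eq_one_iff.1 h3)
  · intro h
    rw [h, card_bot] at hcard
    exact hq.one_lt.ne hcard

/-- transport of the row -/
theorem FrobRow.congr {X : Type u} {Y : Type v} [Group X] [Group Y] (f : X ≃* Y) {c : ℕ} {D : Set ℕ} (h : FrobRow c D X) :
    FrobRow c D Y := by
  obtain ⟨P, Q, h1, h2, h3, h4, h5⟩ := h
  have cm : ∀ H : Subgroup X, Nat.card (H.map f.toMonoidHom) = Nat.card H := fun H =>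
    (Nat.card_congr (H.equivMapOfInjective f.toMonoidHom f.injective).toEquiv).symm
  refine ⟨P.map f.toMonoidHom, Q.map f.toMonoidHom, by rw [cm]; exact h1, ?_, ?_, ?_, ?_⟩
  · rintro _ ⟨q, hq, rfl⟩
    have := mem_normalizer_iff.1 (h2 hq)
    rw [mem_normalizer_iff]
    intro y
    obtain ⟨x, rfl⟩ := f.surjective y
    have e1 : (f.toMonoidHom q) * f x * (f.toMonoidHom q)⁻¹ = f (q * x * q⁻¹) := by
      simp only [MulEquiv.toMonoidHom_eq_coe, MonoidHom.coe_coe, map_mul, map_inv]
    rw [e1]
    have e2 : ∀ z : X, f z ∈ P.map f.toMonoidHom ↔ z ∈ P := fun z =>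
      mem_map_iff_mem (f := f.toMonoidHom) f.injective
    exact (e2 x).trans ((this x).trans (e2 _).symm)
  · rintro _ ⟨u, hu, rfl⟩ _ ⟨g, hg, rfl⟩ hgu
    have : g * u = u * g := f.injective (by
      rw [map_mul, map_mul]; exact hgu)
    rcases h3 u hu g hg this with rfl | rfl
    · exact Or.inl (map_one _)
    · exact Or.inr (map_one _)
  · intro h
    refine h4 ?_
    rw [Subgroup.map_eq_bot_iff_of_injective] at h
    · exact h
    · exact f.injective
  · intro T hT hPQ hd
    set T' : Subgroup X := T.comap f.toMonoidHom with hT'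
    have hTT : T'.map f.toMonoidHom = T := map_comap_eq_self_of_surjective f.surjective T
    have hcT : Nat.card T = Nat.card T' := by rw [← hTT, cm]
    have hkT : Nat.card (ConjClasses T) = Nat.card (ConjClasses T') := by
      rw [← hTT]
      have e : T' ≃* T'.map f.toMonoidHom := T'.equivMapOfInjective f.toMonoidHom f.injective
      exact (Nat.card_congr (H504.Zeros.ccEquiv e)).symm
    have hi : T'.index = T.index := index_comap_of_surjective T f.surjective
    rw [hcT, hkT, ← Nat.card_congr f.toEquiv]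
    refine h5 T' ?_ ?_ (by rw [hi]; exact hd)
    · intro h
      refine hT ?_
      rw [← hTT, h]
      exact map_top_of_surjective _ f.surjective
    · rcases hPQ with hPQ | hPQ
      · exact Or.inl (map_le_iff_le_comap.1 hPQ)
      · exact Or.inr (map_le_iff_le_comap.1 hPQ)

end Cfsg.Agent.H670.S8
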