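import Cfsg.Agent.H211.S8.Nc
import Cfsg.Agent.H827.S8.Kernel

/-!
# S4908, boxes NC and FROB with a sharper condition on the inertia groups (helper670)

`Sharp D T`: numbers `e i` with `∑ (e i)² = |T|`, at most `k(T)` of them, and `|X : T| (e i)` divides a member of `D` (the
degrees of the characters over a linear character with inertia group `T`). `ChiefS` is `Chief` with `Sharp D T` added to the
hypothesis, so `Chief → ChiefS`. `noncentralS`: `ChiefS` kills the noncentral abelian chief factors below `X`. `chiefS_of`: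
the criterion with Frobenius groups and `r`-groups (helper827) for `ChiefS`.
-/

set_option autoImplicit false
set_option linter.unusedSectionVars false
set_option linter.style.haveILetI false

universe u v

namespace Cfsg.Agent.H670.S8

open Cfsg Cfsg.Agent.Characters.Core Cfsg.Agent.H686.CharKit Cfsg.Agent.H672 Cfsg.Agent.H211.Hup Cfsg.Agent.H704.S8
open Subgroup
open scoped ComplexConjugate commutatorElement

/-- the degrees over a linear character with inertia group `T` -/
def Sharp (D : Set ℕ) {X : Type v} [Group X] (T : Subgroup X) : Prop :=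
  ∃ s : Multiset ℕ, (∀ e ∈ s, ∃ d ∈ D, T.index * e ∣ d) ∧ (s.map fun e => e ^ 2).sum = Nat.card T ∧
    s.card ≤ Nat.card (ConjClasses T)

/-- `Chief` with the sharper hypothesis -/
def ChiefS (c : ℕ) (D : Set ℕ) (X : Type v) [Group X] : Prop :=
  ∀ (Λ : Type u) [CommGroup Λ] [Finite Λ] (ρ : X →* MulAut Λ),
    (∀ x : Λ, x ≠ 1 → ∃ T : Subgroup X, (∀ g : X, g ∈ T ↔ ρ g x = x) ∧ T ≠ ⊤ ∧
      (Nat.card X < c * (Nat.card T * Nat.card (ConjClasses T)) ∧ ∃ d ∈ D, T.index ∣ d) ∧ Sharp D T) →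
    ∀ x : Λ, x = 1

theorem ChiefS.of_chief {c : ℕ} {D : Set ℕ} {X : Type v} [Group X] (h : Chief.{u} c D X) : ChiefS.{u} c D X := by
  intro Λ _ _ ρ hT
  refine h Λ ρ fun x hx => ?_
  obtain ⟨T, h1, h2, ⟨h3, h4⟩, -⟩ := hT x hx
  exact ⟨T, h1, h2, h3, h4⟩

section Nc

variable {P : Type u} [Group P] [Finite P]

open Cfsg.Agent.OddOrderCharacters.PF9.CliffGen (irr_ind resTo)
open Cfsg.Agent.OddOrderCharacters.NormalInduced (conjFn)

/-- the degrees over a linear character -/
theorem nc_s (V : Subgroup P) [hV : V.Normal] (l : V →* ℂˣ) (T : Subgroup P)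
    (hT : ∀ g, g ∈ T ↔ ∀ v : V, l (MulAut.conjNormal g v) = l v) (hVT : V ≤ T) :
    ∃ s : Multiset ℕ, (∀ e ∈ s, ∃ χ : IrrCharacter P, charDegree (χ : P → ℂ) = T.index * e) ∧
      (s.map fun e => e ^ 2).sum = (V.subgroupOf T).index ∧ s.card ≤ Nat.card (ConjClasses (T ⧸ V.subgroupOf T)) := by
  classical
  have := Fintype.ofFinite P
  have := Fintype.ofFinite V
  have := Fintype.ofFinite T
  have := finite_irr (G := T)
  have := Fintype.ofFinite (IrrCharacter T)
  let e : V.subgroupOf T ≃* V := Subgroup.subgroupOfEquivOfLe hVT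
  let l' : V.subgroupOf T →* ℂˣ := l.comp e.toMonoidHom
  have hl' : ∀ x : V.subgroupOf T, l' x = l (e x) := fun _ => rfl
  have he : ∀ x : V.subgroupOf T, ((e x : V) : P) = ((x : T) : P) := fun _ => rfl
  have hinv : ∀ (t : T) (v : V.subgroupOf T), l' (MulAut.conjNormal t v) = l' v := by
    intro t v
    rw [hl', hl', ← (hT t).1 t.2 (e v)]
    congr 1
  have hsum := sum_sq_ov (V.subgroupOf T) l' hinv
  set S := Finset.univ.filter fun χ : IrrCharacter T => Ov (V.subgroupOf T) l' (χ : T → ℂ) with hS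
  have hdeg' : ∀ χ ∈ S, ∃ ψ : IrrCharacter P, charDegree (ψ : P → ℂ) = T.index * charDegree (χ : T → ℂ) := by
    intro χ hχ
    have hov : Ov (V.subgroupOf T) l' (χ : T → ℂ) := (Finset.mem_filter.1 hχ).2
    have h1 : IsIrrCharacter P (indFun T (χ : T → ℂ)) := by
      refine irr_ind (N := V) (θ := lf l) (isIrr_lf l) (fun g => ?_) hVT χ.2 ?_
      · rw [hT, funext_iff]
        refine forall_congr' fun v => ?_
        exact ⟨fun h => congrArg Units.val h, fun h => Units.ext h⟩
      · have h2 : resTo hVT (χ : T → ℂ) = ((χ : T → ℂ) 1) • lf l := by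
          funext v
          have h3 := hov (e.symm v) 1
          rw [mul_one, hl', MulEquiv.apply_symm_apply] at h3
          have h4 : ((e.symm v : V.subgroupOf T) : T) = ⟨(v : P), hVT v.2⟩ := by
            apply Subtype.ext
            rw [← he, MulEquiv.apply_symm_apply]
          rw [h4] at h3
          show (χ : T → ℂ) ⟨(v : P), hVT v.2⟩ = _
          rw [h3, Pi.smul_apply, smul_eq_mul, lf_apply, mul_comm]
        rw [h2, classInner_smul_left, classInner_irr_self (isIrr_lf l), mul_one]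
        exact isIrr_apply_one_ne_zero χ.2
    have h5 : charDegree (indFun T (χ : T → ℂ)) = T.index * charDegree (χ : T → ℂ) := by
      apply charDegree_of_eq
      rw [OddOrderCharacters.InertiaAbelian.indFun_one, ← charDegree_irr χ]
      push_cast; rfl
    exact ⟨⟨_, h1⟩, h5⟩
  refine ⟨Multiset.map (fun χ : IrrCharacter T => charDegree (χ : T → ℂ)) S.val, ?_, ?_, ?_⟩
  · intro e he
    obtain ⟨χ, hχ, rfl⟩ := Multiset.mem_map.1 he
    exact hdeg' χ hχ
  · rw [Multiset.map_map, ← hsum]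
    rfl
  · rw [Multiset.card_map]
    have h11 := card_ov_le (V.subgroupOf T) l'
    rwa [Nat.card_eq_fintype_card, Fintype.card_subtype] at h11

end Nc

theorem frameS {c : ℕ} {X : Type v} [Group X] [Finite X] {D : Set ℕ} {P : Type u} [Group P] [Finite P]
    (hdvd : ∀ χ : IrrCharacter P, ∃ d ∈ D, charDegree (χ : P → ℂ) ∣ d)
    (hB : ∀ χ : IrrCharacter P, charDegree (χ : P → ℂ) ^ 2 < c * Nat.card X)
    (V : Subgroup P) [hV : V.Normal] (hab : ∀ a ∈ V, ∀ b ∈ V, a * b = b * a) (hVP : ⁅V, (⊤ : Subgroup P)⁆ = V)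
    (f : P →* X) (hf : Function.Surjective f) (hk : f.ker = V) (habs : ChiefS.{u} c D X) : V = ⊥ := by
  classical
  let _ : CommGroup V := { (inferInstance : Group V) with
    mul_comm := fun a b => Subtype.ext (hab a a.2 b b.2) }
  have hcard : Nat.card (V →* ℂˣ) = Nat.card V := CommGroup.card_monoidHom_of_hasEnoughRootsOfUnity V ℂ
  have hfin : Finite (V →* ℂˣ) := Nat.finite_of_card_ne_zero (by rw [hcard]; exact Nat.card_pos.ne')
  have hidx : V.index = Nat.card X := by
    rw [← hk, Subgroup.index_ker, MonoidHom.range_eq_top.2 hf, Nat.card_congr Subgroup.topEquiv.toEquiv]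
  -- the action factors through `f`
  have hker : f.ker ≤ (dual V).ker := by
    intro a ha
    rw [hk] at ha
    rw [MonoidHom.mem_ker]
    apply MulEquiv.ext
    intro l
    show dual V a l = l
    rw [dual_eq_iff]
    intro v
    congr 1
    apply Subtype.ext
    show a * (v : P) * a⁻¹ = v
    rw [hab a ha v v.2, mul_inv_cancel_right]
  obtain ⟨ρ, hρ⟩ : ∃ ρ : X →* MulAut (V →* ℂˣ), ∀ g, ρ (f g) = dual V g := by
    refine ⟨f.liftOfSurjective hf ⟨dual V, hker⟩, fun g => ?_⟩
    exact f.liftOfRightInverse_comp_apply _ _ ⟨dual V, hker⟩ g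
  have key := habs (V →* ℂˣ) ρ ?_
  · have h1 : Nat.card (V →* ℂˣ) = 1 := by
      rw [Nat.card_eq_one_iff_unique]
      exact ⟨⟨fun a b => by rw [key a, key b]⟩, ⟨1⟩⟩
    rw [hcard] at h1
    exact Subgroup.eq_bot_of_card_eq V h1
  · intro l hl
    -- the inertia group
    let T : Subgroup P :=
      { carrier := {g | dual V g l = l}
        one_mem' := by
          show dual V 1 l = l
          rw [map_one]; rfl
        mul_mem' := by
          intro a b ha hb
          show dual V (a * b) l = l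
          rw [map_mul, MulAut.mul_apply, show dual V b l = l from hb, show dual V a l = l from ha]
        inv_mem' := by
          intro a ha
          show dual V a⁻¹ l = l
          have h1 : dual V a l = l := ha
          conv_lhs => rw [← h1]
          rw [← MulAut.mul_apply, ← map_mul, inv_mul_cancel, map_one]; rfl }
    have hT : ∀ g, g ∈ T ↔ dual V g l = l := fun g => Iff.rfl
    have hT' : ∀ g, g ∈ T ↔ ∀ v, l (MulAut.conjNormal g v) = l v := fun g => (hT g).trans (dual_eq_iff V g l)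
    have hVT : V ≤ T := by
      intro a ha
      rw [← hk] at ha
      rw [hT, MonoidHom.mem_ker.1 (hker ha)]
      rfl
    have hTtop : T ≠ ⊤ := by
      intro h
      apply hl
      have h1 : V ≤ l.ker.map V.subtype := by
        conv_lhs => rw [← hVP]
        rw [Subgroup.commutator_le]
        intro a ha g _
        have h2 : g ∈ T := by rw [h]; trivial
        have h3 := (hT' g).1 h2 ⟨a, ha⟩
        refine ⟨⟨a, ha⟩ * (MulAut.conjNormal g ⟨a, ha⟩)⁻¹, ?_, ?_⟩
        · show l _ = 1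
          rw [map_mul, map_inv, h3, mul_inv_cancel]
        · show a * (g * a * g⁻¹)⁻¹ = a * g * a⁻¹ * g⁻¹
          group
      ext v
      obtain ⟨w, hw, hwv⟩ := h1 v.2
      have h2 : w = v := Subtype.ext hwv
      rw [← h2]
      exact congrArg Units.val hw
    obtain ⟨hnc, ψ, hψ⟩ := H211.S8.nc_c c V l T hT' hVT (by rw [hidx]; exact hB)
    obtain ⟨s, hs1, hs2, hs3⟩ := nc_s V l T hT' hVT
    -- the image in `X`
    let F : T →* X := f.comp T.subtype
    have hF : ∀ t : T, F t = f (t : P) := fun _ => rfl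
    have hFk : F.ker = V.subgroupOf T := by
      ext t
      rw [MonoidHom.mem_ker, hF, ← MonoidHom.mem_ker, hk]
      rfl
    have hmem : ∀ g : X, g ∈ F.range ↔ ρ g l = l := by
      intro g
      obtain ⟨x, rfl⟩ := hf g
      rw [hρ, ← hT]
      constructor
      · rintro ⟨t, ht⟩
        rw [hF] at ht
        have h2 : (t : P)⁻¹ * x ∈ V := by
          rw [← hk, MonoidHom.mem_ker, map_mul, map_inv, ht, inv_mul_cancel]
        have h3 : x = t * ((t : P)⁻¹ * x) := by group
        rw [h3]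
        exact mul_mem t.2 (hVT h2)
      · intro hx
        exact ⟨⟨x, hx⟩, rfl⟩
    let e1 : T ⧸ V.subgroupOf T ≃* F.range :=
      (QuotientGroup.quotientMulEquivOfEq hFk.symm).trans (QuotientGroup.quotientKerEquivRange F)
    have hc1 : Nat.card F.range = V.relIndex T := by
      rw [← Nat.card_congr e1.toEquiv]
      rfl
    have hc2 : V.relIndex T * T.index = Nat.card X := by
      rw [Subgroup.relIndex_mul_index hVT, hidx]
    have hpos : 0 < V.relIndex T := by
      rw [← hc1]; exact Nat.card_pos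
    have hidx2 : F.range.index = T.index := by
      have h1 := F.range.card_mul_index
      rw [hc1, ← hc2] at h1
      exact Nat.eq_of_mul_eq_mul_left hpos h1
    refine ⟨F.range, hmem, ?_, ⟨?_, ?_⟩, ?_⟩
    · intro h
      apply hTtop
      rw [← Subgroup.index_eq_one, ← hidx2, h, Subgroup.index_top]
    · rw [← card_conj_congr e1, hc1, ← hc2, Nat.mul_left_comm]
      exact Nat.mul_lt_mul_of_pos_left hnc hpos
    · obtain ⟨d, hd, hdd⟩ := hdvd ψ
      exact ⟨d, hd, by rw [hidx2]; exact hψ.trans hdd⟩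
    · refine ⟨s, fun e he => ?_, ?_, ?_⟩
      · obtain ⟨χ, hχ⟩ := hs1 e he
        obtain ⟨d, hd, hdd⟩ := hdvd χ
        exact ⟨d, hd, by rw [hidx2, ← hχ]; exact hdd⟩
      · rw [hs2, hc1]; rfl
      · rw [← card_conj_congr e1]; exact hs3

/-- **NC**: no noncentral abelian minimal normal `V` with `N / V = X` in a group with degrees in `D` -/
theorem noncentralS {c : ℕ} {X : Type v} [Group X] [Finite X] {D : Set ℕ} (hD0 : ∀ d ∈ D, 0 < d)
    (hD : ∀ d ∈ D, d ^ 2 < c * Nat.card X) (habs : ChiefS.{u} c D X)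
    {G : Type u} [Group G] [Finite G] (h : charDegrees G ⊆ D) (N V : Subgroup G) [N.Normal] [V.Normal]
    (hVN : V ≤ N) (e : (N ⧸ V.subgroupOf N) ≃* X) (hab : ⁅V, V⁆ = ⊥) (hne : V ≠ ⊥) (hVN' : ⁅V, N⁆ = V) : False := by
  let f : N →* X := e.toMonoidHom.comp (QuotientGroup.mk' (V.subgroupOf N))
  have hker : f.ker = V.subgroupOf N := by
    ext x
    rw [MonoidHom.mem_ker]
    show e (QuotientGroup.mk' _ x) = 1 ↔ _
    rw [EmbeddingLike.map_eq_one_iff, ← MonoidHom.mem_ker, QuotientGroup.ker_mk']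
  have h1 := frameS (c := c) (D := D) (P := N) (fun χ => ?_) (fun χ => ?_) (V.subgroupOf N) ?_ ?_ f
    (e.surjective.comp (QuotientGroup.mk'_surjective _)) hker habs
  · rw [Subgroup.subgroupOf_eq_bot, disjoint_iff, inf_eq_left.2 hVN] at h1
    exact hne h1
  · obtain ⟨d, hd, h2⟩ := H211.S8.exists_dvd N χ
    exact ⟨d, h hd, h2⟩
  · obtain ⟨d, hd, h2⟩ := H211.S8.exists_dvd N χ
    exact lt_of_le_of_lt (Nat.pow_le_pow_left (Nat.le_of_dvd (hD0 d (h hd)) h2) 2) (hD d (h hd))
  · intro a ha b hb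
    have h2 : ⁅(a : G), (b : G)⁆ = 1 := by
      have h3 := Subgroup.commutator_mem_commutator (Subgroup.mem_subgroupOf.1 ha) (Subgroup.mem_subgroupOf.1 hb)
      rwa [hab, Subgroup.mem_bot] at h3
    exact Subtype.ext (commutatorElement_eq_one_iff_mul_comm.1 h2)
  · apply Subgroup.map_injective N.subtype_injective
    rw [Subgroup.map_commutator, Subgroup.subgroupOf_map_subtype, ← MonoidHom.range_eq_map, Subgroup.range_subtype,
      inf_eq_left.2 hVN, hVN']

/-! ### the criterion -/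

/-- no proper subgroup containing `Q` satisfies the conditions -/
def SideS (c : ℕ) (D : Set ℕ) (X : Type v) [Group X] (Q : Subgroup X) : Prop :=
  ∀ T : Subgroup X, T ≠ ⊤ → Q ≤ T → (∃ d ∈ D, T.index ∣ d) → Sharp D T →
    c * (Nat.card T * Nat.card (ConjClasses T)) ≤ Nat.card X

/-- `K : Q` is a Frobenius group (or `Q = 1`) -/
def Frob {X : Type v} [Group X] (K Q : Subgroup X) : Prop :=
  (∀ g ∈ Q, ∀ u ∈ K, g * u * g⁻¹ ∈ K) ∧ ∀ u ∈ K, ∀ g ∈ Q, g * u = u * g → u = 1 ∨ g = 1

theorem chiefS_of {X : Type v} [Group X] [Finite X] [IsSimpleGroup X] {c : ℕ} {D : Set ℕ}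
    (h : ∀ r : ℕ, r.Prime → ∃ Q : Subgroup X, SideS c D X Q ∧
      ((∃ K : Subgroup X, K ≠ ⊥ ∧ ¬ r ∣ Nat.card K ∧ Frob K Q) ∨ IsPGroup r Q)) : ChiefS.{u} c D X := by
  intro Λ _ _ ρ hT
  by_contra hx
  push Not at hx
  obtain ⟨x₀, hx₀⟩ := hx
  -- a prime divisor of the order
  have hc : Nat.card Λ ≠ 1 := by
    intro h1
    have := (Nat.card_eq_one_iff_unique.1 h1).1
    exact hx₀ (Subsingleton.elim _ _)
  obtain ⟨r, hr, hrL⟩ := Nat.exists_prime_and_dvd hc
  have : Fact r.Prime := ⟨hr⟩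
  obtain ⟨z, hz⟩ := exists_prime_orderOf_dvd_card' r hrL
  have hz1 : z ≠ 1 := by
    rintro rfl
    rw [orderOf_one] at hz
    exact hr.one_lt.ne hz
  -- it is enough to find a nontrivial element fixed by a subgroup `Q` with `SideS`
  have key : ∀ Q : Subgroup X, SideS c D X Q → (∃ x : Λ, x ≠ 1 ∧ ∀ g ∈ Q, ρ g x = x) → False := by
    rintro Q hQ ⟨x, hx1, hx⟩
    obtain ⟨T, hT1, hT2, ⟨hT3, hT4⟩, hT5⟩ := hT x hx1
    exact absurd (hQ T hT2 (fun g hg => (hT1 g).2 (hx g hg)) hT4 hT5) (not_le.2 hT3)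
  obtain ⟨Q, hQ, ⟨K, hK1, hKr, hK⟩ | hP⟩ := h r hr
  · refine key Q hQ (H827.S8.exists_fix ρ K Q hK.1 hK.2 ?_)
    by_contra hno
    push Not at hno
    -- the kernel of the action on the elements of order dividing `r`
    let N : Subgroup X :=
      { carrier := {g | ∀ x : Λ, x ^ r = 1 → ρ g x = x}
        one_mem' := fun x _ => by rw [map_one]; rfl
        mul_mem' := fun {a b} ha hb x hx => by rw [map_mul, MulAut.mul_apply, hb x hx, ha x hx]
        inv_mem' := fun {a} ha x hx => by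
          have h1 : ρ a⁻¹ (ρ a x) = x := by rw [← MulAut.mul_apply, ← map_mul, inv_mul_cancel, map_one]; rfl
          rwa [ha x hx] at h1 }
    have hN : N.Normal := ⟨fun n hn g x hx => by
      have h1 : (ρ g⁻¹ x) ^ r = 1 := by rw [← map_pow, hx, map_one]
      rw [map_mul, map_mul, MulAut.mul_apply, MulAut.mul_apply, hn _ h1, ← MulAut.mul_apply, ← map_mul,
        mul_inv_cancel, map_one]
      rfl⟩
    obtain ⟨T, hT1, hT2, -⟩ := hT z hz1
    have hNT : N ≤ T := fun g hg => (hT1 g).2 (hg z (by rw [← hz]; exact pow_orderOf_eq_one z))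
    have hNb : N = ⊥ := by
      rcases hN.eq_bot_or_eq_top with h1 | h1
      · exact h1
      · exact absurd (top_le_iff.1 (h1 ▸ hNT)) hT2
    refine hK1 ((Subgroup.eq_bot_iff_forall K).2 fun u hu => ?_)
    have h2 : u ∈ N := fun x hx => by
      refine hno u hu x ?_
      have h3 : orderOf x ∣ r := orderOf_dvd_of_pow_eq_one hx
      exact Nat.Coprime.coprime_dvd_right h3 ((Nat.coprime_comm.1 ((Nat.Prime.coprime_iff_not_dvd hr).2 hKr)))
    rwa [hNb, Subgroup.mem_bot] at h2
  · exact key Q hQ (H827.S8.exists_fix_pgroup ρ Q hP hrL)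

/-- all proper subgroups are excluded -/
theorem chiefS_of_all {X : Type v} [Group X] [Finite X] [IsSimpleGroup X] {c : ℕ} {D : Set ℕ}
    (h : SideS c D X ⊥) : ChiefS.{u} c D X :=
  chiefS_of fun _ _ => ⟨⊥, h, Or.inr (IsPGroup.of_bot)⟩

/-- **the bound for `k(T)` from the degrees**: `|T| ≤ k(T) E²` -/
theorem Sharp.card_le {D : Set ℕ} {X : Type v} [Group X] [Finite X] {T : Subgroup X} (h : Sharp D T) {E : ℕ}
    (hE : ∀ e : ℕ, (∃ d ∈ D, T.index * e ∣ d) → e ≤ E) : Nat.card T ≤ Nat.card (ConjClasses T) * E ^ 2 := by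
  obtain ⟨s, h1, h2, h3⟩ := h
  rw [← h2]
  refine le_trans ?_ (Nat.mul_le_mul_right _ h3)
  have h4 : ∀ x ∈ s.map fun e => e ^ 2, x ≤ E ^ 2 := by
    intro x hx
    obtain ⟨e, he, rfl⟩ := Multiset.mem_map.1 hx
    exact Nat.pow_le_pow_left (hE e (h1 e he)) 2
  have h5 := Multiset.sum_le_card_nsmul _ _ h4
  rwa [Multiset.card_map, smul_eq_mul] at h5

end Cfsg.Agent.H670.S8
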