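import Cfsg.Agent.H670.S8.J4Num1
import Cfsg.Agent.H670.S8.J4Num2
import Cfsg.Agent.H670.S8.J4Num3
import Cfsg.Agent.H670.S8.J4Num4
import Cfsg.Agent.H265.J4LP.Five
import Cfsg.Agent.H265.J4LP.Seven
import Cfsg.Agent.H265.J4LP.ElevenMain

/-!
# The row FROB of S4908 for `J₄` (helper670)

For each proper subgroup `T` of `J₄`: `|T| k(T) ≤ |J₄|`.
-/

set_option autoImplicit false

namespace Cfsg.Agent.H670.S8

open Cfsg Subgroup Cfsg.Agent.H940 Cfsg.Agent.H940.Eng Cfsg.Agent.H940.Eng.D Cfsg.Agent.H704.S8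

universe u v

/-- a self-centralizing prime -/
theorem cloc_self {X : Type u} [Group X] {r : ℕ} (hr : r.Prime)
    (h : ∀ R : Subgroup X, Nat.card R = r → Nat.card (centralizer (R : Set X)) = r) : CLoc X (r, [r]) := by
  refine ⟨hr, fun g hg => ⟨r, List.mem_singleton_self r, ?_⟩⟩
  have h1 := h (zpowers g) (by rw [Nat.card_zpowers]; exact hg)
  rw [zpowers_eq_closure, centralizer_closure] at h1
  exact h1.dvd

/-- the orders of the centralizers are constant on classes -/
theorem card_cent_conj {X : Type u} [Group X] {g h : X} (hc : IsConj g h) :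
    Nat.card (centralizer ({g} : Set X)) = Nat.card (centralizer ({h} : Set X)) := by
  obtain ⟨c, rfl⟩ := isConj_iff.1 hc
  refine Nat.card_congr (((MulAut.conj c).subgroupMap (centralizer ({g} : Set X))).toEquiv.trans (Equiv.setCongr ?_))
  ext y
  simp only [SetLike.mem_coe, mem_map, mem_centralizer_singleton_iff]
  constructor
  · rintro ⟨x, hx, rfl⟩
    show c * x * c⁻¹ * (c * g * c⁻¹) = c * g * c⁻¹ * (c * x * c⁻¹)
    calc c * x * c⁻¹ * (c * g * c⁻¹) = c * (x * g) * c⁻¹ := by group
      _ = c * (g * x) * c⁻¹ := by rw [hx]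
      _ = _ := by group
  · intro hy
    refine ⟨c⁻¹ * y * c, ?_, ?_⟩
    · calc c⁻¹ * y * c * g = c⁻¹ * (y * (c * g * c⁻¹)) * c := by group
        _ = c⁻¹ * (c * g * c⁻¹ * y) * c := by rw [hy]
        _ = _ := by group
    · show c * (c⁻¹ * y * c) * c⁻¹ = y
      group

namespace J4

abbrev G : Type := Cfsg.Spor.J4

theorem cloc11 : CLoc G (11, [31944, 242]) := by
  refine ⟨by norm_num, fun g hg => ?_⟩
  obtain ⟨j, hj⟩ := H265.J4LP.El.eleven.exhaust g (by rw [hg])
  have h1 := H265.J4LP.El.eleven.card_cent j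
  have h2 := H265.J4LP.El.eleven.ord_rep j
  rw [← H265.J4LP.El.orderOf_of_conj hj, hg] at h2
  rw [card_cent_conj hj, h1]
  fin_cases j
  · exact ⟨31944, by simp, by decide +kernel⟩
  · exact ⟨242, by simp, by decide +kernel⟩
  all_goals exact absurd h2 (by decide)

theorem cloc7 : CLoc G (7, [840]) := by
  refine ⟨by norm_num, fun g hg => ⟨840, by simp, ?_⟩⟩
  have key : ∀ s : Equiv.Perm (Fin 5), 7 * Nat.card (centralizer ({s} : Set (Equiv.Perm (Fin 5)))) ∣ 840 := by
    intro s
    have h := card_subgroup_dvd_card (centralizer ({s} : Set (Equiv.Perm (Fin 5))))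
    rw [H265.J4LP.Sv.card_perm] at h
    exact (Nat.mul_dvd_mul_left 7 h).trans (by norm_num)
  obtain ⟨s, hs⟩ := H265.J4LP.Sv.seven.exhaust g (by rw [hg])
  rcases hs with hs | hs
  · rw [card_cent_conj hs, H265.J4LP.Sv.seven.card_cent]
    exact key s
  · rw [card_cent_conj hs, H265.J4LP.Sv.seven.card_cent']
    exact key s

theorem cloc5 : CLoc G (5, [6720]) := by
  refine ⟨by norm_num, fun g hg => ⟨6720, by simp, ?_⟩⟩
  obtain ⟨h, hh⟩ := H265.J4LP.Fv.five.exhaust g (by rw [hg])
  rw [card_cent_conj hh, H265.J4LP.Fv.five.card_cent]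
  have h1 := card_subgroup_dvd_card (centralizer ({h} : Set H265.J4LP.Fv.D.H))
  rw [H265.J4LP.Fv.five.card_H] at h1
  exact (Nat.mul_dvd_mul_left 5 h1).trans (by norm_num)

theorem hcls : ∀ cl ∈ cls, ∀ x ∈ cl, CLoc G x := by
  intro cl hcl x hx
  rw [cls, List.mem_singleton] at hcl
  subst hcl
  simp only [List.mem_cons, List.not_mem_nil, or_false] at hx
  rcases hx with rfl | rfl | rfl | rfl | rfl | rfl | rfl | rfl
  · exact cloc_self (by norm_num) fun R hR => (H859.BigNum.data43 hR).1
  · exact cloc_self (by norm_num) fun R hR => (H859.BigNum.data37 hR).1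
  · exact cloc_self (by norm_num) fun R hR => (H859.BigNum.data31 hR).1
  · exact cloc_self (by norm_num) fun R hR => (H859.BigNum.data29' hR).1
  · exact cloc_self (by norm_num) fun R hR => (H859.BigNum.data23 hR).1
  · exact cloc11
  · exact cloc7
  · exact cloc5

theorem chk : allD (ftest l_j4 n_j4 1 43 2 cls [] [] 60 RowJ4.loc o_j4) l_j4 1 = true := by
  change ((List.range (21 + 1)).all fun a =>
    allD (ftest l_j4 n_j4 1 43 2 cls [] [] 60 RowJ4.loc o_j4) l_j4.tail (1 * 2 ^ a)) = true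
  rw [List.all_eq_true]
  intro a ha
  rw [List.mem_range] at ha
  by_cases h1 : a < 6
  · exact part_spec num1 (Nat.zero_le _) (by omega)
  by_cases h2 : a < 11
  · exact part_spec num2 (by omega) (by omega)
  by_cases h3 : a < 16
  · exact part_spec num3 (by omega) (by omega)
  · exact part_spec num4 (by omega) (by omega)

/-- **the row FROB** -/
theorem frob (B : Base) (D : Set ℕ) : FrobRow 1 D G := by
  have hfin : Finite G := RowJ4.fin
  obtain ⟨R, hR⟩ := exists_card_eq (G := G) (r := 43) (by decide +kernel) (by rw [RowJ4.card]; decide +kernel)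
  have c43 := H859.BigNum.data43 hR
  obtain ⟨Q, hQ, h1, h2, h3⟩ := frob_pair (by norm_num : Nat.Prime 43) Nat.prime_two (by norm_num) hR c43.1
    (by rw [c43.2]; norm_num)
  exact frobRow_of (RowJ4.ctx B) one_pos hcls (adm := []) (fun h => absurd rfl h) (ex := []) (by norm_num) hR hQ h1 h2 h3
    (fun T _ _ _ hT => absurd hT List.not_mem_nil) chk

end J4

/-- **the row FROB for `J₄`** -/
theorem frob_J4 {X : Type v} [Group X] (B : Base) (h : Spor.IsoJ4 X) (D : Set ℕ) : FrobRow 1 D X := by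
  obtain ⟨e⟩ := h
  exact FrobRow.congr e.symm (J4.frob B D)

end Cfsg.Agent.H670.S8
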