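import Cfsg.Agent.H296.BD.Conj
import Cfsg.Agent.H627.PrincipalCount

/-!
# An upper bound for the number of classes of a subgroup (helper670, for S4908)

A character of degree prime to `p` does not vanish at an element `x` of order `p`, so at most `|C_T(x)|` characters of
`T` have degree prime to `p`; the characters of degree divisible by `P` number at most `|T| / P²`. For a set `S` of primes
dividing `|T|`: `k(T) ≤ ∑_{p ∈ S} |C_T(x_p)| + |T| / (∏ S)²`.
-/

set_option autoImplicit false

namespace Cfsg.Agent.H670.S8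

open Cfsg Subgroup Cfsg.Agent.Characters

universe u

/-- the number of irreducible characters with degree divisible by `P` -/
noncomputable def nd (T : Type u) [Group T] (P : ℕ) : ℕ :=
  Nat.card {χ : IrrCharacter T // P ∣ charDegree (χ : T → ℂ)}

variable {T : Type u} [Group T] [Finite T]

theorem nd_one : nd T 1 = Nat.card (ConjClasses T) := by
  rw [nd, ← Core.card_irr]
  exact Nat.card_congr (Equiv.subtypeUnivEquiv fun χ => one_dvd _)

theorem nd_mul_le {P : ℕ} : nd T P * P ^ 2 ≤ Nat.card T := by
  classical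
  have : Finite (IrrCharacter T) := Core.finite_irr
  have : Fintype (IrrCharacter T) := Fintype.ofFinite _
  rw [← H686.CharKit.sum_deg_sq (G := T), nd, Nat.card_eq_fintype_card, Fintype.card_subtype, ← smul_eq_mul,
    ← Finset.sum_const]
  refine (Finset.sum_le_sum fun χ hχ => ?_).trans (Finset.sum_le_sum_of_subset (Finset.filter_subset _ _))
  have h1 : 0 < charDegree (χ : T → ℂ) := H686.CharKit.charDegree_pos χ
  exact Nat.pow_le_pow_left (Nat.le_of_dvd h1 (Finset.mem_filter.1 hχ).2) 2

/-- **one prime** -/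
theorem nd_step {p P : ℕ} (hp : p.Prime) (hc : p.Coprime P) {x : T} (hx : orderOf x = p) :
    nd T P ≤ Nat.card (centralizer ({x} : Set T)) + nd T (P * p) := by
  classical
  have : Fact p.Prime := ⟨hp⟩
  have hfin : Finite (IrrCharacter T) := Core.finite_irr
  have : Fintype (IrrCharacter T) := Fintype.ofFinite _
  have h1 := H296.BD.card_ne_zero_le x
  refine le_trans ?_ (Nat.add_le_add_right h1 _)
  rw [nd, nd, Nat.card_eq_fintype_card, Nat.card_eq_fintype_card, Nat.card_eq_fintype_card, Fintype.card_subtype,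
    Fintype.card_subtype, Fintype.card_subtype]
  refine le_trans (Finset.card_le_card ?_) (Finset.card_union_le _ _)
  intro χ hχ
  rw [Finset.mem_filter] at hχ
  rw [Finset.mem_union, Finset.mem_filter, Finset.mem_filter]
  by_cases h : p ∣ charDegree (χ : T → ℂ)
  · exact Or.inr ⟨Finset.mem_univ _, hc.symm.mul_dvd_of_dvd_of_dvd hχ.2 h⟩
  · exact Or.inl ⟨Finset.mem_univ _, H627.PrincipalCount.apply_ne_zero (Core.isIrr_isCharacter χ.2) h x
      ⟨1, by rw [hx, pow_one]⟩⟩

/-! ### the Boolean -/

/-- the largest common divisor with a member of the list -/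
def cmax (cs : List ℕ) (m : ℕ) : ℕ := cs.foldr (fun c a => Nat.max (Nat.gcd c m) a) 0

theorem le_cmax {cs : List ℕ} {m c k : ℕ} (hc : c ∈ cs) (hm : 0 < m) (h1 : k ∣ c) (h2 : k ∣ m) : k ≤ cmax cs m := by
  induction cs with
  | nil => exact absurd hc (List.not_mem_nil)
  | cons a l ih =>
    show k ≤ Nat.max (Nat.gcd a m) (cmax l m)
    rcases List.mem_cons.1 hc with rfl | h
    · exact (Nat.le_of_dvd (Nat.gcd_pos_of_pos_right _ hm) (Nat.dvd_gcd h1 h2)).trans (Nat.le_max_left _ _)
    · exact (ih h).trans (Nat.le_max_right _ _)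

/-- data at a prime: the centralizers of the elements of order `p` have order dividing a member of `cs` -/
def CLoc (X : Type u) [Group X] (x : ℕ × List ℕ) : Prop :=
  x.1.Prime ∧ ∀ g : X, orderOf g = x.1 → ∃ c ∈ x.2, Nat.card (centralizer ({g} : Set X)) ∣ c

/-- `s` characters are counted, the others have degree divisible by `P`; is `k ≤ b` ? -/
def kb : List (ℕ × List ℕ) → ℕ → ℕ → ℕ → ℕ → Bool
  | [], m, s, P, b => Nat.ble (s + m / (P * P)) b
  | x :: l, m, s, P, b => Nat.ble (s + m / (P * P)) b ||
      (if Nat.beq (m % x.1) 0 && Nat.beq (Nat.gcd x.1 P) 1 then kb l m (s + cmax x.2 m) (P * x.1) b else kb l m s P b)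

theorem card_cent_sub {X : Type u} [Group X] [Finite X] (H : Subgroup X) (y : H) :
    Nat.card (centralizer ({y} : Set H)) ∣ Nat.card (centralizer ({(y : X)} : Set X)) := by
  have h : (centralizer ({y} : Set H)).map H.subtype ≤ centralizer ({(y : X)} : Set X) := by
    rintro _ ⟨z, hz, rfl⟩
    have h1 := mem_centralizer_singleton_iff.1 hz
    exact mem_centralizer_singleton_iff.2 (congrArg Subtype.val h1)
  rw [Nat.card_congr ((centralizer ({y} : Set H)).equivMapOfInjective H.subtype H.subtype_injective).toEquiv]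
  exact card_dvd_of_le h

theorem kb_sound {X : Type u} [Group X] [Finite X] (H : Subgroup X) {b : ℕ} :
    ∀ {l : List (ℕ × List ℕ)} {s P : ℕ}, (∀ x ∈ l, CLoc X x) → kb l (Nat.card H) s P b = true → 0 < P →
      Nat.card (ConjClasses H) ≤ s + nd H P → Nat.card (ConjClasses H) ≤ b := by
  have base : ∀ {s P : ℕ}, 0 < P → Nat.ble (s + Nat.card H / (P * P)) b = true →
      Nat.card (ConjClasses H) ≤ s + nd H P → Nat.card (ConjClasses H) ≤ b := by
    intro s P hP h1 h2
    rw [Nat.ble_eq] at h1
    refine h2.trans (le_trans (Nat.add_le_add_left ?_ s) h1)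
    rw [Nat.le_div_iff_mul_le (Nat.mul_pos hP hP), ← pow_two]
    exact nd_mul_le
  intro l
  induction l with
  | nil =>
    intro s P _ h hP hk
    exact base hP h hk
  | cons x l ih =>
    intro s P hl h hP hk
    unfold kb at h
    rw [Bool.or_eq_true] at h
    rcases h with h | h
    · exact base hP h hk
    · have hl' : ∀ y ∈ l, CLoc X y := fun y hy => hl y (List.mem_cons_of_mem _ hy)
      split_ifs at h with hc
      · rw [Bool.and_eq_true] at hc
        have h1 : x.1 ∣ Nat.card H := Nat.dvd_of_mod_eq_zero (Nat.eq_of_beq_eq_true hc.1)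
        have h2 : Nat.Coprime x.1 P := Nat.eq_of_beq_eq_true hc.2
        obtain ⟨hp, hcl⟩ := hl x List.mem_cons_self
        have : Fact x.1.Prime := ⟨hp⟩
        obtain ⟨y, hy⟩ := exists_prime_orderOf_dvd_card' (G := H) x.1 h1
        obtain ⟨c, hc1, hc2⟩ := hcl (y : X) (by rw [orderOf_coe]; exact hy)
        refine ih hl' h (Nat.mul_pos hP hp.pos) (hk.trans ?_)
        have h3 := nd_step hp h2 hy
        have h4 : Nat.card (centralizer ({y} : Set H)) ≤ cmax x.2 (Nat.card H) :=
          le_cmax hc1 Nat.card_pos ((card_cent_sub H y).trans hc2) (card_subgroup_dvd_card _)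
        omega
      · exact ih hl' h hP hk

/-- **the bound** -/
theorem card_cls_le {X : Type u} [Group X] [Finite X] (H : Subgroup X) {l : List (ℕ × List ℕ)} (hl : ∀ x ∈ l, CLoc X x)
    {b : ℕ} (h : kb l (Nat.card H) 0 1 b = true) : Nat.card (ConjClasses H) ≤ b :=
  kb_sound H hl h one_pos (by rw [nd_one, zero_add])

end Cfsg.Agent.H670.S8
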