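import Cfsg.Agent.H670.S8.FrobEng
import Cfsg.Agent.H940.RowJ4

/-!
# Data of the row FROB of S4908 for `J₄` (helper670)

`part s t` : the orders with `2`-part `2 ^ k`, `s ≤ k < s + t` (the computation is split for the memory).
-/

set_option autoImplicit false

namespace Cfsg.Agent.H670.S8.J4

open Cfsg.Agent.H940 Cfsg.Agent.H940.Eng Cfsg.Agent.H940.Eng.D

/-- the data -/
def cls : List (List (ℕ × List ℕ)) := [[(43, [43]), (37, [37]), (31, [31]), (29, [29]), (23, [23]), (11, [31944, 242]),
  (7, [840]), (5, [6720])]]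

/-- a part of the computation -/
def part (s t : ℕ) : Bool :=
  (List.range t).all fun k => allD (ftest l_j4 n_j4 1 43 2 cls [] [] 60 RowJ4.loc o_j4) l_j4.tail (1 * 2 ^ (s + k))

theorem part_spec {s t a : ℕ} (h : part s t = true) (h1 : s ≤ a) (h2 : a < s + t) :
    allD (ftest l_j4 n_j4 1 43 2 cls [] [] 60 RowJ4.loc o_j4) l_j4.tail (1 * 2 ^ a) = true := by
  unfold part at h
  rw [List.all_eq_true] at h
  have h3 := h (a - s) (List.mem_range.2 (by omega))
  rwa [Nat.add_sub_of_le h1] at h3

end Cfsg.Agent.H670.S8.J4
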