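import Cfsg.Agent.H670.S8.J4Def

/-! # A part of the computation for `J₄` (helper670) -/

set_option autoImplicit false

namespace Cfsg.Agent.H670.S8.J4

theorem num1 : part 0 6 = true := by decide +kernel

end Cfsg.Agent.H670.S8.J4
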