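import Cfsg.Agent.H670.S8.FrobEng
import Cfsg.Agent.H670.S8.Sharp

/-!
# The kernel test for `SideS` and `ChiefS` (helper670, S4908)

`sideS_of`: one kernel computation over the divisors `m` of `|X|` (the orders of the proper subgroups `T ≥ Q`). The order `m`
is excluded if
* `w = |Q|` (or a divisor of it) does not divide `m`;
* `E = emax adm (|X| / m)`, the largest `d / |X : T|` (`d ∈ adm`, `|X : T|` divides `d`), is `0`, or `k(T) E² < m` by the
  bound of `KB.lean`;
* `c m² ≤ |X|`, or `k(T) ≤ |X| / (c m)`;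
* the order engine of helper940 excludes `m`;
* the index is in the list `ex` (by hand).
-/

set_option autoImplicit false

namespace Cfsg.Agent.H670.S8

open Cfsg Subgroup Cfsg.Agent.H940.Eng Cfsg.Agent.H704.S8 Cfsg.Agent.OrdDiv

universe u v

/-- the largest quotient `d / n`, `d` in the list divisible by `n` -/
def emax (adm : List ℕ) (n : ℕ) : ℕ :=
  adm.foldr (fun d a => if Nat.beq (d % n) 0 then Nat.max (d / n) a else a) 0

theorem le_emax {n e d : ℕ} (hn : 0 < n) (hd0 : 0 < d) (h : n * e ∣ d) : ∀ {adm : List ℕ}, d ∈ adm → e ≤ emax adm n := by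
  intro adm
  induction adm with
  | nil => intro hd; exact absurd hd List.not_mem_nil
  | cons a l ih =>
    intro hd
    show e ≤ if Nat.beq (a % n) 0 then Nat.max (a / n) (emax l n) else emax l n
    rcases List.mem_cons.1 hd with rfl | h1
    · have h2 : d % n = 0 := Nat.mod_eq_zero_of_dvd (dvd_of_mul_right_dvd h)
      rw [h2]
      refine le_trans ?_ (Nat.le_max_left _ _)
      rw [Nat.le_div_iff_mul_le hn, mul_comm]
      exact Nat.le_of_dvd hd0 h
    · split_ifs
      · exact (ih h1).trans (Nat.le_max_right _ _)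
      · exact ih h1

/-- the test for the order `m` -/
def stest (l : List (ℕ × ℕ)) (n c w : ℕ) (cls : List (List (ℕ × List ℕ))) (adm ex : List ℕ) (bd : ℕ) (loc : List LD)
    (ords : List ℕ) (m : ℕ) : Bool :=
  !(Nat.beq (m % w) 0) || Nat.ble (c * (m * m)) n || Nat.beq m n ||
    (match emax adm (n / m) with
      | 0 => true
      | E + 1 => cls.any fun cl => kb cl m 0 1 ((m - 1) / ((E + 1) * (E + 1)))) ||
    (cls.any fun cl => kb cl m 0 1 (n / m / c)) || (ex.any fun i => Nat.beq i (n / m)) || bad l n [] bd loc ords m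

/-- **the test is sound** -/
theorem sideS_of {X : Type u} [Group X] {l : List (ℕ × ℕ)} {n : ℕ} {ords : List ℕ} {loc : List LD}
    (ctx : Ctx X l n ords loc) {c : ℕ} (hc : 0 < c) {D : Set ℕ} {cls : List (List (ℕ × List ℕ))}
    (hcls : ∀ cl ∈ cls, ∀ x ∈ cl, CLoc X x) {adm : List ℕ} (hadm : ∀ d ∈ D, d ∈ adm) (h0 : (adm.all fun d => Nat.blt 0 d) = true)
    {ex : List ℕ} {bd w : ℕ} {Q : Subgroup X} (hQ : w ∣ Nat.card Q)
    (hex : ∀ T : Subgroup X, T ≠ ⊤ → Q ≤ T → (∃ d ∈ D, T.index ∣ d) → Sharp D T → T.index ∈ ex →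
      c * (Nat.card T * Nat.card (ConjClasses T)) ≤ Nat.card X)
    (h : allD (stest l n c w cls adm ex bd loc ords) l 1 = true) : SideS c D X Q := by
  have := ctx.fin
  have := ctx.simple
  intro T hT hQT hd hS
  have hcard := card_subgroup_dvd_card T
  have hmul : Nat.card T * T.index = Nat.card X := card_mul_index T
  have hTpos : 0 < Nat.card T := Nat.card_pos
  have hn : Nat.card X = n := ctx.card
  have hidx : n / Nat.card T = T.index := by
    rw [← hn, ← hmul, Nat.mul_div_cancel_left _ hTpos]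
  have hipos : 0 < T.index := Nat.pos_of_ne_zero T.index_ne_zero_of_finite
  have hkT : Nat.card (ConjClasses T) ≤ Nat.card T := by
    exact Nat.card_le_card_of_surjective (ConjClasses.mk : T → ConjClasses T) (fun x => Quotient.exists_rep x)
  have hpos : ∀ d ∈ D, 0 < d := by
    intro d hd
    rw [List.all_eq_true] at h0
    have h1 := h0 d (hadm d hd)
    rw [Nat.blt_eq] at h1
    exact h1
  have fin : ∀ k : ℕ, Nat.card (ConjClasses T) ≤ k → k ≤ T.index / c →
      c * (Nat.card T * Nat.card (ConjClasses T)) ≤ Nat.card X := by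
    intro k h1 h2
    have h3 : k * c ≤ T.index := (Nat.le_div_iff_mul_le hc).1 h2
    calc c * (Nat.card T * Nat.card (ConjClasses T)) ≤ c * (Nat.card T * k) := by gcongr
      _ = Nat.card T * (k * c) := by ring
      _ ≤ Nat.card T * T.index := by gcongr
      _ = Nat.card X := hmul
  have hE : Nat.card T ≤ Nat.card (ConjClasses T) * (emax adm (n / Nat.card T)) ^ 2 := by
    refine hS.card_le fun e he => ?_
    obtain ⟨d, hd, hdd⟩ := he
    rw [hidx]
    exact le_emax hipos (hpos d hd) hdd (hadm d hd)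
  have hdiv : Nat.card T ∈ divsT l := by
    refine mem_divsT (valid_prime ctx.val) ?_
    rw [valid_prod ctx.val, ← hn]
    exact hcard
  have h1 := allD_sound h _ hdiv
  rw [one_mul] at h1
  unfold stest at h1
  rw [Bool.or_eq_true, Bool.or_eq_true, Bool.or_eq_true, Bool.or_eq_true, Bool.or_eq_true, Bool.or_eq_true] at h1
  rcases h1 with ((((((h1 | h1) | h1) | h1) | h1) | h1) | h1)
  · exfalso
    rw [Bool.not_eq_true'] at h1
    have h2 := hQ.trans (card_dvd_of_le hQT)
    rw [Nat.mod_eq_zero_of_dvd h2] at h1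
    exact absurd h1 (by decide)
  · rw [Nat.ble_eq] at h1
    rw [hn]
    refine le_trans ?_ h1
    gcongr
  · exfalso
    refine hT ((card_eq_iff_eq_top T).1 ?_)
    rw [hn]
    exact Nat.eq_of_beq_eq_true h1
  · exfalso
    cases hEm : emax adm (n / Nat.card T) with
    | zero =>
      rw [hEm, zero_pow (by norm_num), mul_zero] at hE
      omega
    | succ E =>
      rw [hEm] at h1 hE
      have h2 : (cls.any fun cl => kb cl (Nat.card T) 0 1 ((Nat.card T - 1) / ((E + 1) * (E + 1)))) = true := h1
      rw [List.any_eq_true] at h2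
      obtain ⟨cl, hcl, h3⟩ := h2
      have h4 := card_cls_le T (hcls cl hcl) h3
      rw [Nat.le_div_iff_mul_le (by positivity), ← pow_two] at h4
      omega
  · rw [List.any_eq_true] at h1
    obtain ⟨cl, hcl, h2⟩ := h1
    rw [hidx] at h2
    exact fin _ (card_cls_le T (hcls cl hcl) h2) le_rfl
  · rw [List.any_eq_true] at h1
    obtain ⟨i, hi, h2⟩ := h1
    have h3 := Nat.eq_of_beq_eq_true h2
    rw [hidx] at h3
    exact hex T hT hQT hd hS (h3 ▸ hi)
  · exfalso
    have h2 := not_bad ctx.val hn ctx.ords ctx.loc (full := []) (bd := bd) (H := T) (fun p hp => absurd hp List.not_mem_nil) hT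
    rw [h2] at h1
    exact absurd h1 (by decide)

/-- **all orders are excluded**: `ChiefS` from one kernel computation -/
theorem chiefS_of_check {X : Type v} [Group X] {l : List (ℕ × ℕ)} {n : ℕ} {ords : List ℕ} {loc : List LD}
    (ctx : Ctx X l n ords loc) {c : ℕ} (hc : 0 < c) {D : Set ℕ} {cls : List (List (ℕ × List ℕ))}
    (hcls : ∀ cl ∈ cls, ∀ x ∈ cl, CLoc X x) {adm : List ℕ} (hadm : ∀ d ∈ D, d ∈ adm) (h0 : (adm.all fun d => Nat.blt 0 d) = true)
    {bd : ℕ} (h : allD (stest l n c 1 cls adm [] bd loc ords) l 1 = true) : ChiefS.{u} c D X := by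
  have := ctx.fin
  have := ctx.simple
  exact chiefS_of_all (sideS_of ctx hc hcls hadm h0 (one_dvd _) (fun T _ _ _ _ hT => absurd hT List.not_mem_nil) h)

/-- transport -/
theorem ChiefS.congr {X : Type v} {Y : Type*} [Group X] [Group Y] (f : X ≃* Y) {c : ℕ} {D : Set ℕ} (h : ChiefS.{u} c D X) :
    ChiefS.{u} c D Y := by
  intro Λ _ _ ρ hρ x
  refine h Λ (ρ.comp f.toMonoidHom) (fun x hx => ?_) x
  obtain ⟨T, h1, h2, ⟨h3, h4⟩, h5⟩ := hρ x hx
  have hc : Nat.card (T.comap f.toMonoidHom) = Nat.card T := by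
    have h6 : (T.comap f.toMonoidHom).map f.toMonoidHom = T := map_comap_eq_self_of_surjective f.surjective T
    conv_rhs => rw [← h6]
    exact Nat.card_congr ((T.comap f.toMonoidHom).equivMapOfInjective f.toMonoidHom f.injective).toEquiv
  have hk : Nat.card (ConjClasses (T.comap f.toMonoidHom)) = Nat.card (ConjClasses T) := by
    have h6 : (T.comap f.toMonoidHom).map f.toMonoidHom = T := map_comap_eq_self_of_surjective f.surjective T
    conv_rhs => rw [← h6]
    exact Nat.card_congr (H504.Zeros.ccEquiv ((T.comap f.toMonoidHom).equivMapOfInjective f.toMonoidHom f.injective))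
  have hi : (T.comap f.toMonoidHom).index = T.index := index_comap_of_surjective T f.surjective
  refine ⟨T.comap f.toMonoidHom, fun g => h1 (f g), ?_, ⟨?_, ?_⟩, ?_⟩
  · intro h
    refine h2 ?_
    have h6 : (T.comap f.toMonoidHom).map f.toMonoidHom = T := map_comap_eq_self_of_surjective f.surjective T
    rw [h] at h6
    rw [← h6]
    exact map_top_of_surjective _ f.surjective
  · rw [hc, hk, Nat.card_congr f.toEquiv]
    exact h3
  · rw [hi]; exact h4
  · obtain ⟨s, s1, s2, s3⟩ := h5
    exact ⟨s, by rw [hi]; exact s1, by rw [hc]; exact s2, by rw [hk]; exact s3⟩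

end Cfsg.Agent.H670.S8
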